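import Groth.Prelude.Def_Hyper
import Mathlib

/-!
A hypercovering of an object gives a hypercovering of the final object of the localized site.
-/

set_option autoImplicit false
set_option backward.isDefEq.respectTransparency false

universe u

open CategoryTheory CategoryTheory.Limits Opposite Simplicial

noncomputable section

namespace Groth.Agent.HypSite

variable {C : Type u} [SmallCategory C]

/-- the section of `F(K)` given by a morphism from a single object -/
def el {K : FormalCoproduct.{u} C} {U : C} (χ : (FormalCoproduct.incl C).obj U ⟶ K) :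
    (FormalCoproduct.yoneda.obj K).obj (op U) :=
  (Sigma.ι (fun i => CategoryTheory.yoneda.obj (K.obj i)) (χ.f PUnit.unit)).app (op U) (χ.φ PUnit.unit)

theorem exists_el {K : FormalCoproduct.{u} C} {U : C} (s : (FormalCoproduct.yoneda.obj K).obj (op U)) :
    ∃ χ : (FormalCoproduct.incl C).obj U ⟶ K, el χ = s := by
  obtain ⟨⟨i⟩, g, hg⟩ := Types.jointly_surjective _ (isColimitOfPreserves ((evaluation _ _).obj (op U))
    (colimit.isColimit (Discrete.functor fun i : K.I => CategoryTheory.yoneda.obj (K.obj i)))) s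
  exact ⟨.fromIncl i g, hg⟩

theorem map_el {K L : FormalCoproduct.{u} C} (f : K ⟶ L) {U : C}
    (χ : (FormalCoproduct.incl C).obj U ⟶ K) :
    (FormalCoproduct.yoneda.map f).app (op U) (el χ) = el (χ ≫ f) := by
  show ((Sigma.ι (fun i => CategoryTheory.yoneda.obj (K.obj i)) (χ.f PUnit.unit)) ≫
    FormalCoproduct.yoneda.map f).app (op U) (χ.φ PUnit.unit) = _
  simp only [FormalCoproduct.yoneda, FormalCoproduct.eval_obj_map, Sigma.ι_desc]
  rfl

theorem res_el {K : FormalCoproduct.{u} C} {U V : C} (h : V ⟶ U) (χ : (FormalCoproduct.incl C).obj U ⟶ K) :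
    (FormalCoproduct.yoneda.obj K).map h.op (el χ) = el ((FormalCoproduct.incl C).map h ≫ χ) :=
  (ConcreteCategory.congr_hom
    ((Sigma.ι (fun i => CategoryTheory.yoneda.obj (K.obj i)) (χ.f PUnit.unit)).naturality h.op) _).symm

theorem hom_ext {K : FormalCoproduct.{u} C} {U : C} {χ χ' : (FormalCoproduct.incl C).obj U ⟶ K}
    (h₁ : χ.f PUnit.unit = χ'.f PUnit.unit)
    (h₂ : χ.φ PUnit.unit ≫ eqToHom (congrArg K.obj h₁) = χ'.φ PUnit.unit) : χ = χ' :=
  (FormalCoproduct.hom_ext_iff' _ _).2 fun _ => ⟨h₁, h₂⟩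

variable (J : GrothendieckTopology C)

/-- Local lifts of morphisms from single objects along a covering. -/
theorem exists_lift {K L : FormalCoproduct.{u} C} {f : K ⟶ L} (hf : Hyper.IsSRCovering J f) {U : C}
    (χ : (FormalCoproduct.incl C).obj U ⟶ L) :
    ∃ S : Sieve U, S ∈ J U ∧ ∀ ⦃V : C⦄ (h : V ⟶ U), S h →
      ∃ χ' : (FormalCoproduct.incl C).obj V ⟶ K, χ' ≫ f = (FormalCoproduct.incl C).map h ≫ χ := by
  refine ⟨_, J.pullback_stable (χ.φ PUnit.unit) (hf (χ.f PUnit.unit)), fun V h hh => ?_⟩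
  obtain ⟨W, w, _, ⟨⟨i, hi⟩⟩, hw⟩ := hh
  exact ⟨.fromIncl i w, hom_ext hi ((Category.assoc _ _ _).trans hw)⟩

theorem isLocallySurjective_map {K L : FormalCoproduct.{u} C} {f : K ⟶ L}
    (hf : Hyper.IsSRCovering J f) : Presheaf.IsLocallySurjective J (FormalCoproduct.yoneda.map f) := by
  refine ⟨fun {U} s => ?_⟩
  obtain ⟨χ, rfl⟩ := exists_el s
  obtain ⟨S, hS, hlift⟩ := exists_lift J hf χ
  refine J.superset_covering (fun V h hh => ?_) hS
  obtain ⟨χ', hχ'⟩ := hlift h hh
  exact ⟨el χ', by rw [map_el, hχ', res_el]⟩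

/-- the simplicial object `U ⊗ Δ[1]` -/
def interval (U : C) : SimplicialObject (FormalCoproduct.{u} C) where
  obj n := ⟨ULift.{u} (n.unop ⟶ ⦋1⦌), fun _ => U⟩
  map θ := ⟨fun a => ⟨θ.unop ≫ a.down⟩, fun _ => 𝟙 U⟩
  map_id n := FormalCoproduct.hom_ext (funext fun a => ULift.ext _ _ (Category.id_comp _)) fun a => by simp
  map_comp θ θ' := FormalCoproduct.hom_ext (funext fun a => ULift.ext _ _ (Category.assoc _ _ _)) fun a => by simp

theorem isLocallySurjective_pair (K : SimplicialObject (FormalCoproduct.{u} C))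
    [∀ (n : ℕ) (F : (SimplexCategory.Truncated n)ᵒᵖ ⥤ FormalCoproduct.{u} C),
      (SimplexCategory.Truncated.inclusion n).op.HasRightKanExtension F]
    (hK : Hyper.IsSRCovering J (((SimplicialObject.coskAdj 0).unit.app K).app (op ⦋1⦌))) :
    Presheaf.IsLocallySurjective J
      (prod.lift (FormalCoproduct.yoneda.map (K.δ (1 : Fin 2))) (FormalCoproduct.yoneda.map (K.δ (0 : Fin 2)))) := by
  refine ⟨fun {U} s => ?_⟩
  obtain ⟨c₁, h₁⟩ := exists_el
    ((prod.fst : FormalCoproduct.yoneda.obj (K.obj (op ⦋0⦌)) ⨯ FormalCoproduct.yoneda.obj (K.obj (op ⦋0⦌)) ⟶ _).app (op U) s)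
  obtain ⟨c₀, h₀⟩ := exists_el
    ((prod.snd : FormalCoproduct.yoneda.obj (K.obj (op ⦋0⦌)) ⨯ FormalCoproduct.yoneda.obj (K.obj (op ⦋0⦌)) ⟶ _).app (op U) s)
  let p : Fin 2 → ((FormalCoproduct.incl C).obj U ⟶ K.obj (op ⦋0⦌)) := ![c₁, c₀]
  let φ₀ : (interval U).obj (op ⦋0⦌) ⟶ K.obj (op ⦋0⦌) :=
    ⟨fun a => (p (a.down.toOrderHom 0)).f PUnit.unit, fun a => (p (a.down.toOrderHom 0)).φ PUnit.unit⟩
  have hsub : ∀ (a : SimplexCategory) (n : (SimplexCategory.Truncated 0)), Subsingleton (a ⟶ n.obj) :=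
    fun a n => ⟨fun x y => by
      ext i : 3
      have := n.2
      have hh := (x.toOrderHom i).2
      have hh' := (y.toOrderHom i).2
      apply Fin.ext
      omega⟩
  let φ : (SimplicialObject.truncation 0).obj (interval U) ⟶ (SimplicialObject.truncation 0).obj K :=
    { app n := (interval U).map (SimplexCategory.const ⦋0⦌ n.unop.obj 0).op ≫ φ₀ ≫
        K.map (SimplexCategory.const n.unop.obj ⦋0⦌ 0).op
      naturality n m θ := by
        show (interval U).map θ.unop.hom.op ≫ (interval U).map _ ≫ φ₀ ≫ K.map _ =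
          ((interval U).map _ ≫ φ₀ ≫ K.map _) ≫ K.map θ.unop.hom.op
        rw [← Category.assoc, ← Functor.map_comp, Category.assoc, Category.assoc, ← K.map_comp,
          ← op_comp, ← op_comp]
        congr 3
        exact @Subsingleton.elim _ (hsub _ n.unop) _ _ }
  let ε : interval U ⟶ (SimplicialObject.Truncated.cosk 0).obj ((SimplicialObject.truncation 0).obj K) :=
    (SimplicialObject.coskAdj 0).homEquiv _ _ φ
  let e₁ : (FormalCoproduct.incl C).obj U ⟶ (interval U).obj (op ⦋1⦌) := .fromIncl ⟨𝟙 _⟩ (𝟙 U)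
  obtain ⟨S, hS, hlift⟩ := exists_lift J hK (e₁ ≫ ε.app (op ⦋1⦌))
  refine J.superset_covering (fun V h hh => ?_) hS
  obtain ⟨χ, hχ⟩ := hlift h hh
  refine ⟨el χ, ?_⟩
  let z : (SimplexCategory.Truncated 0)ᵒᵖ := op ⟨⦋0⦌, le_rfl⟩
  have hface : ∀ j : Fin 2, χ ≫ K.δ j =
      (FormalCoproduct.incl C).map h ≫ e₁ ≫ (interval U).δ j ≫ φ₀ := by
    intro j
    have hη : ((SimplicialObject.coskAdj 0).unit.app K).app (op ⦋0⦌) ≫
        ((SimplicialObject.coskAdj 0).counit.app ((SimplicialObject.truncation 0).obj K)).app z = 𝟙 _ :=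
      congr_arg (fun t => t.app z) ((SimplicialObject.coskAdj (C := FormalCoproduct.{u} C) 0).left_triangle_components K)
    have hε : ε.app (op ⦋0⦌) ≫
        ((SimplicialObject.coskAdj 0).counit.app ((SimplicialObject.truncation 0).obj K)).app z = φ.app z := by
      exact congr_arg (fun t : (SimplicialObject.truncation 0).obj (interval U) ⟶
          (SimplicialObject.truncation 0).obj K => NatTrans.app t z)
        ((Adjunction.homEquiv_counit (SimplicialObject.coskAdj 0) _ _ _).symm.trans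
          (((SimplicialObject.coskAdj (C := FormalCoproduct.{u} C) 0).homEquiv (interval U)
            ((SimplicialObject.truncation 0).obj K)).symm_apply_apply φ))
    have hφ : φ.app z = φ₀ := by
      show (interval U).map (SimplexCategory.const ⦋0⦌ ⦋0⦌ 0).op ≫ φ₀ ≫
        K.map (SimplexCategory.const ⦋0⦌ ⦋0⦌ 0).op = φ₀
      rw [show SimplexCategory.const ⦋0⦌ ⦋0⦌ 0 = 𝟙 _ from Subsingleton.elim _ _]
      simp
    calc χ ≫ K.δ j
        = χ ≫ K.δ j ≫ ((SimplicialObject.coskAdj 0).unit.app K).app (op ⦋0⦌) ≫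
            ((SimplicialObject.coskAdj 0).counit.app ((SimplicialObject.truncation 0).obj K)).app z := by
          rw [hη]; simp
      _ = (χ ≫ ((SimplicialObject.coskAdj 0).unit.app K).app (op ⦋1⦌)) ≫
            ((SimplicialObject.Truncated.cosk 0).obj ((SimplicialObject.truncation 0).obj K)).δ j ≫
            ((SimplicialObject.coskAdj 0).counit.app ((SimplicialObject.truncation 0).obj K)).app z := by
          rw [Category.assoc]
          exact congrArg (χ ≫ ·) (((Category.assoc _ _ _).symm.trans (congrArg (· ≫ _)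
            (((SimplicialObject.coskAdj 0).unit.app K).naturality (SimplexCategory.δ j).op))).trans
              (Category.assoc _ _ _))
      _ = (FormalCoproduct.incl C).map h ≫ e₁ ≫ (interval U).δ j ≫ ε.app (op ⦋0⦌) ≫
            ((SimplicialObject.coskAdj 0).counit.app ((SimplicialObject.truncation 0).obj K)).app z := by
          rw [hχ]
          simp only [SimplicialObject.δ, Category.assoc]
          rw [← NatTrans.naturality_assoc]
      _ = (FormalCoproduct.incl C).map h ≫ e₁ ≫ (interval U).δ j ≫ φ₀ := by rw [hε, hφ]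
  have hc₁ : e₁ ≫ (interval U).δ (1 : Fin 2) ≫ φ₀ = c₁ := hom_ext rfl
    (show (𝟙 U ≫ 𝟙 U ≫ c₁.φ PUnit.unit) ≫ eqToHom _ = c₁.φ PUnit.unit by simp)
  have hc₀ : e₁ ≫ (interval U).δ (0 : Fin 2) ≫ φ₀ = c₀ := hom_ext rfl
    (show (𝟙 U ≫ 𝟙 U ≫ c₀.φ PUnit.unit) ≫ eqToHom _ = c₀.φ PUnit.unit by simp)
  refine (CategoryTheory.yonedaEquiv (C := C)).symm.injective (Limits.prod.hom_ext ?_ ?_) <;>
    apply CategoryTheory.yonedaEquiv.injective <;>
    simp only [yonedaEquiv_comp, Equiv.apply_symm_apply]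
  · show ((prod.lift _ _) ≫ prod.fst : _ ⟶ FormalCoproduct.yoneda.obj (K.obj (op ⦋0⦌))).app (op V) (el χ) = _
    rw [prod.lift_fst]
    refine (map_el _ χ).trans ?_
    rw [hface, hc₁, ← res_el, h₁]
    exact (ConcreteCategory.congr_hom ((prod.fst : FormalCoproduct.yoneda.obj (K.obj (op ⦋0⦌)) ⨯
      FormalCoproduct.yoneda.obj (K.obj (op ⦋0⦌)) ⟶ _).naturality h.op) s).symm
  · show ((prod.lift _ _) ≫ prod.snd : _ ⟶ FormalCoproduct.yoneda.obj (K.obj (op ⦋0⦌))).app (op V) (el χ) = _
    rw [prod.lift_snd]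
    refine (map_el _ χ).trans ?_
    rw [hface, hc₀, ← res_el, h₀]
    exact (ConcreteCategory.congr_hom ((prod.snd : FormalCoproduct.yoneda.obj (K.obj (op ⦋0⦌)) ⨯
      FormalCoproduct.yoneda.obj (K.obj (op ⦋0⦌)) ⟶ _).naturality h.op) s).symm

theorem isHypercoveringSite (X : C) (K : SimplicialObject (FormalCoproduct.{u} (Over X)))
    [∀ (n : ℕ) (F : (SimplexCategory.Truncated n)ᵒᵖ ⥤ FormalCoproduct.{u} (Over X)),
      (SimplexCategory.Truncated.inclusion n).op.HasRightKanExtension F]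
    (hK : Hyper.IsHypercovering J X K) : Hyper.IsHypercoveringSite (J.over X) K := by
  refine ⟨⟨fun {U} s => ?_⟩, isLocallySurjective_pair (J.over X) K (hK.2 0),
    fun n _ => isLocallySurjective_map (J.over X) (hK.2 n)⟩
  rw [GrothendieckTopology.mem_over_iff]
  refine J.superset_covering (fun V g hg => ?_) (J.pullback_stable U.hom hK.1)
  obtain ⟨W, w, _, ⟨i⟩, hw⟩ := hg
  rw [Sieve.overEquiv_iff]
  refine ⟨el (.fromIncl i (Over.homMk w)), ?_⟩
  refine (CategoryTheory.yonedaEquiv (C := Over X)).symm.injective ?_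
  exact Subsingleton.elim _ _

end Groth.Agent.HypSite
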