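import Groth.Agent.HypSite.Basic
import Mathlib

/-!
Degree zero Čech cohomology of a hypercovering.
-/

set_option autoImplicit false
set_option linter.style.haveILetI false
set_option backward.isDefEq.respectTransparency false

universe u

open CategoryTheory CategoryTheory.Limits Opposite Simplicial

noncomputable section

namespace Groth.Agent.HypSite

variable {C : Type u} [SmallCategory C] [HasPullbacks C] {J : GrothendieckTopology C} {X : C}
  (K : SimplicialObject (FormalCoproduct.{u} (Over X))) (F : Sheaf J AddCommGrpCat.{u})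

/-- the underlying presheaf of sets on the localized site -/
abbrev pre : (Over X)ᵒᵖ ⥤ Type u :=
  (Over.forget X).op ⋙ F.obj ⋙ forget AddCommGrpCat.{u}

/-- the cochains in a degree, coordinatewise -/
abbrev cf (n : ℕ) (i : (K.obj (op ⦋n⦌)).I) : AddCommGrpCat.{u} := F.obj.obj (op ((K.obj (op ⦋n⦌)).obj i).left)

theorem d_π (k : (K.obj (op ⦋1⦌)).I) :
    (Hyper.cechCx X K F.obj).d 0 1 ≫ Pi.π (cf K F 1) k =
      Pi.π (cf K F 0) ((K.δ (0 : Fin 2)).f k) ≫ F.obj.map ((K.δ (0 : Fin 2)).φ k).left.op -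
        Pi.π (cf K F 0) ((K.δ (1 : Fin 2)).f k) ≫ F.obj.map ((K.δ (1 : Fin 2)).φ k).left.op := by
  have h1 : (Hyper.cechCx X K F.obj).d 0 1 = AlgebraicTopology.AlternatingCofaceMapComplex.objD
      ((FormalCoproduct.cosimplicialObjectFunctor K).obj ((Over.forget X).op ⋙ F.obj)) 0 :=
    CochainComplex.of_d (fun m => ((FormalCoproduct.cosimplicialObjectFunctor K).obj
      ((Over.forget X).op ⋙ F.obj)).obj (SimplexCategory.mk m)) _ 0
  have h2 : ∀ j : Fin 2, ((FormalCoproduct.cosimplicialObjectFunctor K).obj ((Over.forget X).op ⋙ F.obj)).δ j ≫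
      Pi.π (cf K F 1) k = Pi.π (cf K F 0) ((K.δ j).f k) ≫ F.obj.map ((K.δ j).φ k).left.op :=
    fun j => Pi.lift_π _ _
  have h3 : AlgebraicTopology.AlternatingCofaceMapComplex.objD
      ((FormalCoproduct.cosimplicialObjectFunctor K).obj ((Over.forget X).op ⋙ F.obj)) 0 =
      ((FormalCoproduct.cosimplicialObjectFunctor K).obj ((Over.forget X).op ⋙ F.obj)).δ (0 : Fin 2) -
      ((FormalCoproduct.cosimplicialObjectFunctor K).obj ((Over.forget X).op ⋙ F.obj)).δ (1 : Fin 2) := by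
    unfold AlgebraicTopology.AlternatingCofaceMapComplex.objD
    refine (Fin.sum_univ_two _).trans ?_
    simp [sub_eq_add_neg]
  rw [h1, h3]
  exact (Preadditive.sub_comp _ _ _).trans (congrArg₂ (· - ·) (h2 0) (h2 1))

/-- restriction to the zero-th level -/
def res0 : F.obj.obj (op X) ⟶ (Hyper.cechCx X K F.obj).X 0 :=
  Pi.lift (f := cf K F 0) fun i => F.obj.map ((K.obj (op ⦋0⦌)).obj i).hom.op

theorem res0_d : res0 K F ≫ (Hyper.cechCx X K F.obj).d 0 1 = 0 := by
  refine Pi.hom_ext (f := cf K F 1) _ _ fun k => ?_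
  rw [Category.assoc, d_π, Preadditive.comp_sub, zero_comp]
  have h : ∀ j : Fin 2, res0 K F ≫ Pi.π (cf K F 0) ((K.δ j).f k) ≫ F.obj.map ((K.δ j).φ k).left.op =
      F.obj.map ((K.obj (op ⦋1⦌)).obj k).hom.op := fun j => by
    rw [res0, Pi.lift_π_assoc, ← F.obj.map_comp, ← op_comp, Over.w]
  rw [h 0, h 1, sub_self]

theorem res0_injective
    [∀ (n : ℕ) (G : (SimplexCategory.Truncated n)ᵒᵖ ⥤ FormalCoproduct.{u} (Over X)),
      (SimplexCategory.Truncated.inclusion n).op.HasRightKanExtension G]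
    (hK : Hyper.IsHypercovering J X K) : Function.Injective (res0 K F) := by
  intro a b hab
  have hsh := Presheaf.IsSheaf.isSheafFor (P := F.obj ⋙ forget AddCommGrpCat.{u})
    (CategoryTheory.Presheaf.isSheaf_comp_of_isSheaf J F.obj (forget AddCommGrpCat.{u}) F.property) _ hK.1
  refine hsh.isSeparatedFor.ext fun V g hg => ?_
  obtain ⟨W, w, _, ⟨i⟩, rfl⟩ := hg
  have h1 : ∀ c : F.obj.obj (op X), Pi.π (cf K F 0) i (res0 K F c) =
      F.obj.map ((K.obj (op ⦋0⦌)).obj i).hom.op c := fun c =>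
    ConcreteCategory.congr_hom (Pi.lift_π (f := cf K F 0)
      (fun i => F.obj.map ((K.obj (op ⦋0⦌)).obj i).hom.op) i) c
  show F.obj.map (w ≫ ((K.obj (op ⦋0⦌)).obj i).hom).op a = F.obj.map (w ≫ ((K.obj (op ⦋0⦌)).obj i).hom).op b
  rw [op_comp, F.obj.map_comp, ConcreteCategory.comp_apply, ConcreteCategory.comp_apply, ← h1 a, ← h1 b, hab]

theorem exists_res0
    [∀ (n : ℕ) (G : (SimplexCategory.Truncated n)ᵒᵖ ⥤ FormalCoproduct.{u} (Over X)),
      (SimplexCategory.Truncated.inclusion n).op.HasRightKanExtension G]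
    (hK : Hyper.IsHypercovering J X K) (x : (Hyper.cechCx X K F.obj).X 0)
    (hx : (Hyper.cechCx X K F.obj).d 0 1 x = 0) : ∃ a, res0 K F a = x := by
  obtain ⟨c, hc⟩ : ∃ c : ∀ i : (K.obj (op ⦋0⦌)).I, cf K F 0 i, ∀ i, c i = Pi.π (cf K F 0) i x :=
    ⟨_, fun i => rfl⟩
  have hcyc : ∀ k, F.obj.map ((K.δ (0 : Fin 2)).φ k).left.op (c ((K.δ (0 : Fin 2)).f k)) =
      F.obj.map ((K.δ (1 : Fin 2)).φ k).left.op (c ((K.δ (1 : Fin 2)).f k)) := by
    intro k
    have h1 := ConcreteCategory.congr_hom (d_π K F k) x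
    rw [ConcreteCategory.comp_apply, hx, map_zero] at h1
    rw [hc, hc]
    exact sub_eq_zero.mp h1.symm
  have hsh := Presheaf.IsSheaf.isSheafFor (P := F.obj ⋙ forget AddCommGrpCat.{u})
    (CategoryTheory.Presheaf.isSheaf_comp_of_isSheaf J F.obj (forget AddCommGrpCat.{u}) F.property) _ hK.1
  have hcomp : Presieve.Arrows.Compatible (F.obj ⋙ forget AddCommGrpCat.{u})
      (fun i => ((K.obj (op ⦋0⦌)).obj i).hom) c := by
    intro i j Z gi gj hij
    let Z' : Over X := Over.mk (gi ≫ ((K.obj (op ⦋0⦌)).obj i).hom)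
    let c₁ : (FormalCoproduct.incl (Over X)).obj Z' ⟶ K.obj (op ⦋0⦌) := .fromIncl i (Over.homMk gi)
    let c₀ : (FormalCoproduct.incl (Over X)).obj Z' ⟶ K.obj (op ⦋0⦌) := .fromIncl j (Over.homMk gj hij.symm)
    have := isLocallySurjective_pair (J.over X) K (hK.2 0)
    let Y := FormalCoproduct.yoneda.obj (K.obj (op ⦋0⦌))
    let s : (Y ⨯ Y).obj (op Z') := CategoryTheory.yonedaEquiv
      (prod.lift (CategoryTheory.yonedaEquiv.symm (el c₁)) (CategoryTheory.yonedaEquiv.symm (el c₀)))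
    have hs₁ : (prod.fst : Y ⨯ Y ⟶ Y).app (op Z') s = el c₁ := by
      rw [← yonedaEquiv_comp, prod.lift_fst, Equiv.apply_symm_apply]
    have hs₀ : (prod.snd : Y ⨯ Y ⟶ Y).app (op Z') s = el c₀ := by
      rw [← yonedaEquiv_comp, prod.lift_snd, Equiv.apply_symm_apply]
    have hS := Presheaf.imageSieve_mem (J.over X)
      (prod.lift (FormalCoproduct.yoneda.map (K.δ (1 : Fin 2))) (FormalCoproduct.yoneda.map (K.δ (0 : Fin 2)))) s
    rw [GrothendieckTopology.mem_over_iff] at hS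
    have hsh' := Presheaf.IsSheaf.isSheafFor (P := F.obj ⋙ forget AddCommGrpCat.{u})
      (CategoryTheory.Presheaf.isSheaf_comp_of_isSheaf J F.obj (forget AddCommGrpCat.{u}) F.property) _ hS
    refine hsh'.isSeparatedFor.ext fun V h hh => ?_
    rw [Sieve.overEquiv_iff] at hh
    obtain ⟨t, ht⟩ := hh
    obtain ⟨χ, rfl⟩ := exists_el t
    let h' : (Over.mk (h ≫ Z'.hom) : Over X) ⟶ Z' := Over.homMk h
    -- evaluation at the coordinates
    let ev : Y ⟶ pre F := Sigma.desc fun i => CategoryTheory.yonedaEquiv.symm (c i : (pre F).obj (op ((K.obj (op ⦋0⦌)).obj i)))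
    have hev : ∀ {W : Over X} (ψ : (FormalCoproduct.incl (Over X)).obj W ⟶ K.obj (op ⦋0⦌)),
        ev.app (op W) (el ψ) = F.obj.map (ψ.φ PUnit.unit).left.op (c (ψ.f PUnit.unit)) := fun {W} ψ => by
      show ((Sigma.ι (fun i => CategoryTheory.yoneda.obj ((K.obj (op ⦋0⦌)).obj i)) (ψ.f PUnit.unit)) ≫ ev).app
        (op W) (ψ.φ PUnit.unit) = _
      rw [Sigma.ι_desc]
      rfl
    have e₁ : el (χ ≫ K.δ (1 : Fin 2)) = Y.map h'.op (el c₁) := by
      have h1 := congrArg ((prod.fst : Y ⨯ Y ⟶ Y).app (op (Over.mk (h ≫ Z'.hom)))) ht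
      rw [← hs₁]
      refine Eq.trans ?_ (h1.trans (ConcreteCategory.congr_hom ((prod.fst : Y ⨯ Y ⟶ Y).naturality h'.op) s))
      show _ = (prod.lift _ _ ≫ (prod.fst : Y ⨯ Y ⟶ Y)).app _ (el χ)
      rw [prod.lift_fst]
      exact (map_el _ χ).symm
    have e₀ : el (χ ≫ K.δ (0 : Fin 2)) = Y.map h'.op (el c₀) := by
      have h1 := congrArg ((prod.snd : Y ⨯ Y ⟶ Y).app (op (Over.mk (h ≫ Z'.hom)))) ht
      rw [← hs₀]
      refine Eq.trans ?_ (h1.trans (ConcreteCategory.congr_hom ((prod.snd : Y ⨯ Y ⟶ Y).naturality h'.op) s))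
      show _ = (prod.lift _ _ ≫ (prod.snd : Y ⨯ Y ⟶ Y)).app _ (el χ)
      rw [prod.lift_snd]
      exact (map_el _ χ).symm
    have key : ∀ j : Fin 2, ev.app (op (Over.mk (h ≫ Z'.hom))) (el (χ ≫ K.δ j)) =
        F.obj.map (χ.φ PUnit.unit).left.op
          (F.obj.map ((K.δ j).φ (χ.f PUnit.unit)).left.op (c ((K.δ j).f (χ.f PUnit.unit)))) := fun j => by
      rw [hev, ← ConcreteCategory.comp_apply, ← F.obj.map_comp, ← op_comp]
      rfl
    have heq : ev.app _ (Y.map h'.op (el c₁)) = ev.app _ (Y.map h'.op (el c₀)) := by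
      rw [← e₁, ← e₀, key, key, hcyc]
    have nat : ∀ ψ, ev.app (op (Over.mk (h ≫ Z'.hom))) (Y.map h'.op ψ) = F.obj.map h.op (ev.app (op Z') ψ) :=
      fun ψ => ConcreteCategory.congr_hom (ev.naturality h'.op) ψ
    rw [nat, nat, hev, hev] at heq
    exact heq
  obtain ⟨a, ha, -⟩ := (Presieve.isSheafFor_arrows_iff _ _).mp
    ((Presieve.isSheafFor_iff_generate _).mpr hsh) c hcomp
  refine ⟨a, Concrete.limit_ext (Discrete.functor (cf K F 0)) _ _ fun ⟨i⟩ => ?_⟩
  show Pi.π (cf K F 0) i (res0 K F a) = Pi.π (cf K F 0) i x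
  rw [← hc i, ← ha i]
  exact ConcreteCategory.congr_hom (Pi.lift_π (f := cf K F 0)
    (fun i => F.obj.map ((K.obj (op ⦋0⦌)).obj i).hom.op) i) a

theorem nonempty_cechH_zero_iso
    [∀ (n : ℕ) (G : (SimplexCategory.Truncated n)ᵒᵖ ⥤ FormalCoproduct.{u} (Over X)),
      (SimplexCategory.Truncated.inclusion n).op.HasRightKanExtension G]
    (hK : Hyper.IsHypercovering J X K) : Nonempty (Hyper.cechH X K F.obj 0 ≅ F.obj.obj (op X)) := by
  let S := ShortComplex.mk (res0 K F) ((Hyper.cechCx X K F.obj).d 0 1) (res0_d K F)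
  have hS : S.Exact := by
    rw [ShortComplex.ab_exact_iff]
    exact fun x hx => exists_res0 K F hK x hx
  haveI : Mono S.f := (AddCommGrpCat.mono_iff_injective _).mpr (res0_injective K F hK)
  let e := IsLimit.conePointUniqueUpToIso hS.fIsKernel
    ((Hyper.cechCx X K F.obj).cyclesIsKernel 0 1 (by simp))
  exact ⟨(asIso ((Hyper.cechCx X K F.obj).homologyπ 0)).symm ≪≫ e.symm⟩

end Groth.Agent.HypSite
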